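import Cfsg.Agent.Lib.DC.J4c.Defs

set_option autoImplicit false
set_option maxRecDepth 100000
set_option Elab.async false
set_option linter.unusedSectionVars false

namespace Cfsg.Agent.DC.J4c
open Cfsg.Agent.CG

theorem c0 : allLt (fun a => Nat.beq (iv a) (nth CG.M24p.invL 23 a)) 256 = true := by decide +kernel
theorem c1 : band (blt ivT (Nat.pow 2 2048)) (blt CG.M24p.invL.length 256) = true := by decide +kernel
theorem c2 : allLt (fun a => blt (iv a) 256) 256 = true := by decide +kernel
theorem c3 : rules.all (ruleChk iv rels0 lrels idx) = true := by decide +kernel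
theorem c4 : allRange (chk CG.M24p.app iv CG.M24p.bs false facts nd rules) 0 658 = true := by decide +kernel
theorem c5 : allRange (chk CG.M24p.app iv CG.M24p.bs false facts nd rules) 658 711 = true := by decide +kernel
theorem c6 : allRange (chk CG.M24p.app iv CG.M24p.bs false facts nd rules) 1369 784 = true := by decide +kernel
theorem c7 : allRange (chk CG.M24p.app iv CG.M24p.bs false facts nd rules) 2153 714 = true := by decide +kernel
theorem c8 : allRange (chk CG.M24p.app iv CG.M24p.bs false facts nd rules) 2867 727 = true := by decide +kernel
theorem c9 : allRange (chk CG.M24p.app iv CG.M24p.bs false facts nd rules) 3594 732 = true := by decide +kernel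
theorem c10 : allRange (chk CG.M24p.app iv CG.M24p.bs false facts nd rules) 4326 63 = true := by decide +kernel
theorem c11 : chainIn (dl.map Prod.fst) CG.M24p.mc.tail = true := by decide +kernel
theorem c12 : allL (dlChk facts 4389 1) dl = true := by decide +kernel
theorem c13 : allRange (forChk CG.M24p.app iv facts 4389 0 1 0 16 fin fo0) 0 3795 = true := by decide +kernel
theorem c14 : allRange (forChk CG.M24p.app iv facts 4389 1 1 0 16 fin fo1) 0 3795 = true := by decide +kernel
theorem c15 : allRange (forChk CG.M24p.app iv facts 4389 4 1 0 16 fin fo2) 0 3795 = true := by decide +kernel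
theorem c16 : allRange (forChk CG.M24p.app iv facts 4389 5 1 0 16 fin fo3) 0 3795 = true := by decide +kernel
theorem c17 : allRange (forChk CG.M24p.app iv facts 4389 6 1 0 16 fin fo4) 0 3795 = true := by decide +kernel
theorem c18 : allRange (forChk CG.M24p.app iv facts 4389 7 1 0 16 fin fo5) 0 3795 = true := by decide +kernel
theorem c19 : allRange (forChk CG.M24p.app iv facts 4389 8 1 0 16 fin fo6) 0 3795 = true := by decide +kernel
theorem c20 : allRange (forChk CG.M24p.app iv facts 4389 9 1 0 16 fin fo7) 0 3795 = true := by decide +kernel
theorem c21 : allRange (forChk CG.M24p.app iv facts 4389 10 1 0 16 fin fo8) 0 3795 = true := by decide +kernel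
theorem c22 : allRange (forChk CG.M24p.app iv facts 4389 11 1 0 16 fin fo9) 0 3795 = true := by decide +kernel
theorem c23 : allRange (forChk CG.M24p.app iv facts 4389 12 1 0 16 fin fo10) 0 3795 = true := by decide +kernel
theorem c24 : allRange (forChk CG.M24p.app iv facts 4389 13 1 0 16 fin fo11) 0 3795 = true := by decide +kernel
theorem c25 : allRange (forChk CG.M24p.app iv facts 4389 14 1 0 16 fin fo12) 0 3795 = true := by decide +kernel
theorem c26 : allRange (forChk CG.M24p.app iv facts 4389 16 1 0 16 fin fo13) 0 3795 = true := by decide +kernel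
theorem c27 : allRange (forChk CG.M24p.app iv facts 4389 17 1 0 16 fin fo14) 0 3795 = true := by decide +kernel
theorem c28 : allRange (forChk CG.M24p.app iv facts 4389 18 1 0 16 fin fo15) 0 3795 = true := by decide +kernel
theorem c29 : allRange (forChk CG.M24p.app iv facts 4389 19 1 0 16 fin fo16) 0 3795 = true := by decide +kernel
theorem c30 : allRange (forChk CG.M24p.app iv facts 4389 20 1 0 16 fin fo17) 0 3795 = true := by decide +kernel
theorem c31 : allRange (forChk CG.M24p.app iv facts 4389 21 1 0 16 fin fo18) 0 3795 = true := by decide +kernel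
theorem c32 : allRange (forChk CG.M24p.app iv facts 4389 22 1 0 16 fin fo19) 0 3795 = true := by decide +kernel

end Cfsg.Agent.DC.J4c
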