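import Cfsg.Agent.Lib.Grp.M24p.Main
import Cfsg.Agent.Lib.DC.J4c.C0

set_option autoImplicit false
set_option maxRecDepth 100000
set_option Elab.async false
set_option linter.unusedSectionVars false

namespace Cfsg.Agent.DC.J4c
open Cfsg.Agent.CG

variable [_root_.Fact (Bounds CG.M24p.tcR CG.M24p.tcS 244823040)] {Γ : Type*} [Group Γ] {f : CG.M24p.PG →* Γ} {τ z : ℕ → Γ} {L : Subgroup Γ}

theorem hiv : ∀ a, CG.M24p.act.gen (iv a) = (CG.M24p.act.gen a)⁻¹ := fun a =>
  (congrArg CG.M24p.act.gen (ivX_eq c0 c1 a)).trans (CG.M24p.hinv a)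

theorem h256 : ∀ a, a < 256 → iv a < 256 := fun a ha => (blt_iff _ _).1 ((allLt_iff _ _).1 c2 a ha)

theorem all : allRange (chk CG.M24p.app iv CG.M24p.bs false facts nd rules) 0 4389 = true :=
  (rapp (allRange (chk CG.M24p.app iv CG.M24p.bs false facts nd rules)) (fun _ _ _ => allRange_append) 4389 (rapp (allRange (chk CG.M24p.app iv CG.M24p.bs false facts nd rules)) (fun _ _ _ => allRange_append) 4326 (rapp (allRange (chk CG.M24p.app iv CG.M24p.bs false facts nd rules)) (fun _ _ _ => allRange_append) 3594 (rapp (allRange (chk CG.M24p.app iv CG.M24p.bs false facts nd rules)) (fun _ _ _ => allRange_append) 2867 (rapp (allRange (chk CG.M24p.app iv CG.M24p.bs false facts nd rules)) (fun _ _ _ => allRange_append) 2153 (rapp (allRange (chk CG.M24p.app iv CG.M24p.bs false facts nd rules)) (fun _ _ _ => allRange_append) 1369 c4 c5 rfl rfl) c6 rfl rfl) c7 rfl rfl) c8 rfl rfl) c9 rfl rfl) c10 rfl rfl)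

theorem sem (hz : ∀ i, z i ∈ Subgroup.center Γ) (hrel : ∀ r ∈ rels, ev (tokv CG.M24p.act.gen f τ) r.1 = zv z r.2)
    (hL : ∀ g, f g ∈ L) (hl : ∀ r ∈ lrels, ev (tokv CG.M24p.act.gen f τ) r ∈ L) :
    ∀ j, j < 4389 → Sem CG.M24p.act false facts nd rules f τ z L (facts.get j) :=
  sound (env_of_chk (lrels := lrels) (idx := idx) CG.M24p.base hiv hz (rels01 hrel) (fun _ => hL) (fun _ => hl) c2 c3) all

theorem for0 : allRange (forChk CG.M24p.app iv facts 4389 0 1 0 16 fin fo0) 0 3795 = true :=
  c13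

theorem for1 : allRange (forChk CG.M24p.app iv facts 4389 1 1 0 16 fin fo1) 0 3795 = true :=
  c14

theorem for2 : allRange (forChk CG.M24p.app iv facts 4389 4 1 0 16 fin fo2) 0 3795 = true :=
  c15

theorem for3 : allRange (forChk CG.M24p.app iv facts 4389 5 1 0 16 fin fo3) 0 3795 = true :=
  c16

theorem for4 : allRange (forChk CG.M24p.app iv facts 4389 6 1 0 16 fin fo4) 0 3795 = true :=
  c17

theorem for5 : allRange (forChk CG.M24p.app iv facts 4389 7 1 0 16 fin fo5) 0 3795 = true :=
  c18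

theorem for6 : allRange (forChk CG.M24p.app iv facts 4389 8 1 0 16 fin fo6) 0 3795 = true :=
  c19

theorem for7 : allRange (forChk CG.M24p.app iv facts 4389 9 1 0 16 fin fo7) 0 3795 = true :=
  c20

theorem for8 : allRange (forChk CG.M24p.app iv facts 4389 10 1 0 16 fin fo8) 0 3795 = true :=
  c21

theorem for9 : allRange (forChk CG.M24p.app iv facts 4389 11 1 0 16 fin fo9) 0 3795 = true :=
  c22

theorem for10 : allRange (forChk CG.M24p.app iv facts 4389 12 1 0 16 fin fo10) 0 3795 = true :=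
  c23

theorem for11 : allRange (forChk CG.M24p.app iv facts 4389 13 1 0 16 fin fo11) 0 3795 = true :=
  c24

theorem for12 : allRange (forChk CG.M24p.app iv facts 4389 14 1 0 16 fin fo12) 0 3795 = true :=
  c25

theorem for13 : allRange (forChk CG.M24p.app iv facts 4389 16 1 0 16 fin fo13) 0 3795 = true :=
  c26

theorem for14 : allRange (forChk CG.M24p.app iv facts 4389 17 1 0 16 fin fo14) 0 3795 = true :=
  c27

theorem for15 : allRange (forChk CG.M24p.app iv facts 4389 18 1 0 16 fin fo15) 0 3795 = true :=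
  c28

theorem for16 : allRange (forChk CG.M24p.app iv facts 4389 19 1 0 16 fin fo16) 0 3795 = true :=
  c29

theorem for17 : allRange (forChk CG.M24p.app iv facts 4389 20 1 0 16 fin fo17) 0 3795 = true :=
  c30

theorem for18 : allRange (forChk CG.M24p.app iv facts 4389 21 1 0 16 fin fo18) 0 3795 = true :=
  c31

theorem for19 : allRange (forChk CG.M24p.app iv facts 4389 22 1 0 16 fin fo19) 0 3795 = true :=
  c32

theorem finite [Finite L] (hM : ∀ i, z i ∈ L) (hz : ∀ i, z i ∈ Subgroup.center Γ) (hrel : ∀ r ∈ rels, ev (tokv CG.M24p.act.gen f τ) r.1 = zv z r.2)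
    (hL : ∀ g, f g ∈ L) (hl : ∀ r ∈ lrels, ev (tokv CG.M24p.act.gen f τ) r ∈ L) :
    Finite (Subgroup.closure (Set.range f ∪ {τ 0})) := by
  have S := sem hz hrel hL hl
  have k := fun {e : ℕ} {tb : ℕ → ℕ} => forest_sound S hM_I hM hiv CG.M24p.tabOK.w_pos (fun _ => Iff.rfl) (act_surj CG.M24p.tabOK)
    (e := e) (eps := 1) (x0 := 0) ⟨0, by decide, rfl⟩
    (fun _ hg => stab_passes S hz hM CG.M24p.chain CG.M24p.card_le c11 c12 hg) (fin := fin) (tb := tb)
  exact finite_of_cover (t := tau τ 1) (M := L) (fin := fin) (by decide) (all_cons (k for0) (all_cons (k for1) (all_cons (k for2) (all_cons (k for3) (all_cons (k for4) (all_cons (k for5) (all_cons (k for6) (all_cons (k for7) (all_cons (k for8) (all_cons (k for9) (all_cons (k for10) (all_cons (k for11) (all_cons (k for12) (all_cons (k for13) (all_cons (k for14) (all_cons (k for15) (all_cons (k for16) (all_cons (k for17) (all_cons (k for18) (all_cons (k for19) all_nil))))))))))))))))))))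


end Cfsg.Agent.DC.J4c
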