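import Cfsg.Agent.Lib.DC.J4c.D0
import Cfsg.Agent.Lib.Grp.M24p.Defs

set_option autoImplicit false
set_option maxRecDepth 100000
set_option Elab.async false
set_option linter.unusedSectionVars false

namespace Cfsg.Agent.DC.J4c
open Cfsg.Agent.CG

noncomputable def facts : Tr Fact := (.node (.node (.node (.node (.node facts_0 facts_16) (.node facts_8 facts_24)) (.node (.node facts_4 facts_20) (.node facts_12 facts_28))) (.node (.node (.node facts_2 facts_18) (.node facts_10 facts_26)) (.node (.node facts_6 facts_22) (.node facts_14 facts_30)))) (.node (.node (.node (.node facts_1 facts_17) (.node facts_9 facts_25)) (.node (.node facts_5 facts_21) (.node facts_13 facts_29))) (.node (.node (.node facts_3 facts_19) (.node facts_11 facts_27)) (.node (.node facts_7 facts_23) (.node facts_15 facts_31)))))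
noncomputable def fo0T : Tr ℕ := (.node (.leaf fo0T_0) (.leaf fo0T_1))
noncomputable def fo1T : Tr ℕ := (.node (.leaf fo1T_0) (.leaf fo1T_1))
noncomputable def fo2T : Tr ℕ := (.node (.leaf fo2T_0) (.leaf fo2T_1))
noncomputable def fo3T : Tr ℕ := (.node (.leaf fo3T_0) (.leaf fo3T_1))
noncomputable def fo4T : Tr ℕ := (.node (.leaf fo4T_0) (.leaf fo4T_1))
noncomputable def fo5T : Tr ℕ := (.node (.leaf fo5T_0) (.leaf fo5T_1))
noncomputable def fo6T : Tr ℕ := (.node (.leaf fo6T_0) (.leaf fo6T_1))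
noncomputable def fo7T : Tr ℕ := (.node (.leaf fo7T_0) (.leaf fo7T_1))
noncomputable def fo8T : Tr ℕ := (.node (.leaf fo8T_0) (.leaf fo8T_1))
noncomputable def fo9T : Tr ℕ := (.node (.leaf fo9T_0) (.leaf fo9T_1))
noncomputable def fo10T : Tr ℕ := (.node (.leaf fo10T_0) (.leaf fo10T_1))
noncomputable def fo11T : Tr ℕ := (.node (.leaf fo11T_0) (.leaf fo11T_1))
noncomputable def fo12T : Tr ℕ := (.node (.leaf fo12T_0) (.leaf fo12T_1))
noncomputable def fo13T : Tr ℕ := (.node (.leaf fo13T_0) (.leaf fo13T_1))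
noncomputable def fo14T : Tr ℕ := (.node (.leaf fo14T_0) (.leaf fo14T_1))
noncomputable def fo15T : Tr ℕ := (.node (.leaf fo15T_0) (.leaf fo15T_1))
noncomputable def fo16T : Tr ℕ := (.node (.leaf fo16T_0) (.leaf fo16T_1))
noncomputable def fo17T : Tr ℕ := (.node (.leaf fo17T_0) (.leaf fo17T_1))
noncomputable def fo18T : Tr ℕ := (.node (.leaf fo18T_0) (.leaf fo18T_1))
noncomputable def fo19T : Tr ℕ := (.node (.leaf fo19T_0) (.leaf fo19T_1))
noncomputable def nd : ℕ → ℕ := (fun i => look 0xffffff ndT (Nat.mul 24 i))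
noncomputable def ivT : ℕ := nat_lit 0x2010403060518071a191c1b1e1d101f12111413161517
noncomputable abbrev iv : ℕ → ℕ := ivX ivT 23
noncomputable def rels : List (List ℕ × List ℤ) := [([256,256], []),
  ([257,2,0,2,0,2,0,1,0,1,0,2,0,2,256,1,0,1,0,2,0,2,0,1,0,1,0,1], []),
  ([257,0,256,0], []),
  ([1,0,1,0,2,0,1,0,2,256,1,0,2,0,1,0,2,0,1,0,1,0,2,0,1,0,2,256,1,0,2,0,1,0,2,0,1,0,1,0,2,0,1,0,2,256,1,0,2,0,1,0,2,0], []),
  ([1,0,1,0,1,0,1,1,0,1,0,1,0,1,1,0,1,0,1,0,1,256,2,2,0,2,0,2,0,2,0,2,0,2,0,2,2,0,2,0,2,0,256,0,1,0,1,0,1,1,0,1,0,1,0,1,0,1,0,1,0,1,1,1,0,1,0,1,0,1,1,0,1,0,1,0,1,1,0,1,0,1,0,1,256,2,2,0,2,0,2,0,2,0,2,0,2,0,2,2,0,2,0,2,0,256,0,1,0,1,0,1,1,0,1,0,1,0,1,0,1,0,1,0,1,1], [])]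
noncomputable def lrels : List (List ℕ) := [[1,0,1,0,2,0,2,0,2,0,2,256,1,0,1,0,1,0,1,0,2,0,1,0,1,0,2,0,2,0,2,0,2,256,1,0,1,0,1,0,1,0,2,0,1,0,1,0,2,0,2,0,2,0,2,256,1,0,1,0,1,0,1,0,2,0]]
noncomputable abbrev rels0 : List (List ℕ × List ℤ) := ([], []) :: ([256, 257], []) :: rels
noncomputable def idx : List (ℕ × ℕ) := [(257, 2)]
noncomputable def fin : List ℕ := [0,1,4,5,6,7,8,9,10,11,12,13,14,16,17,18,19,20,21,22]
noncomputable def dl : List (ℕ × ℕ) := [(0,4376),(11,4377),(12,4378),(13,4379),(14,4380),(15,4381),(16,4382),(17,4383),(18,4384),(19,4385),(20,4386),(21,4387),(22,4388)]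
noncomputable def fo0 : ℕ → ℕ := (fun i => lk2 fo0T 0xffffffff (Nat.mul 32 i))
noncomputable def fo1 : ℕ → ℕ := (fun i => lk2 fo1T 0xffffffff (Nat.mul 32 i))
noncomputable def fo2 : ℕ → ℕ := (fun i => lk2 fo2T 0xffffffff (Nat.mul 32 i))
noncomputable def fo3 : ℕ → ℕ := (fun i => lk2 fo3T 0xffffffff (Nat.mul 32 i))
noncomputable def fo4 : ℕ → ℕ := (fun i => lk2 fo4T 0xffffffff (Nat.mul 32 i))
noncomputable def fo5 : ℕ → ℕ := (fun i => lk2 fo5T 0xffffffff (Nat.mul 32 i))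
noncomputable def fo6 : ℕ → ℕ := (fun i => lk2 fo6T 0xffffffff (Nat.mul 32 i))
noncomputable def fo7 : ℕ → ℕ := (fun i => lk2 fo7T 0xffffffff (Nat.mul 32 i))
noncomputable def fo8 : ℕ → ℕ := (fun i => lk2 fo8T 0xffffffff (Nat.mul 32 i))
noncomputable def fo9 : ℕ → ℕ := (fun i => lk2 fo9T 0xffffffff (Nat.mul 32 i))
noncomputable def fo10 : ℕ → ℕ := (fun i => lk2 fo10T 0xffffffff (Nat.mul 32 i))
noncomputable def fo11 : ℕ → ℕ := (fun i => lk2 fo11T 0xffffffff (Nat.mul 32 i))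
noncomputable def fo12 : ℕ → ℕ := (fun i => lk2 fo12T 0xffffffff (Nat.mul 32 i))
noncomputable def fo13 : ℕ → ℕ := (fun i => lk2 fo13T 0xffffffff (Nat.mul 32 i))
noncomputable def fo14 : ℕ → ℕ := (fun i => lk2 fo14T 0xffffffff (Nat.mul 32 i))
noncomputable def fo15 : ℕ → ℕ := (fun i => lk2 fo15T 0xffffffff (Nat.mul 32 i))
noncomputable def fo16 : ℕ → ℕ := (fun i => lk2 fo16T 0xffffffff (Nat.mul 32 i))
noncomputable def fo17 : ℕ → ℕ := (fun i => lk2 fo17T 0xffffffff (Nat.mul 32 i))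
noncomputable def fo18 : ℕ → ℕ := (fun i => lk2 fo18T 0xffffffff (Nat.mul 32 i))
noncomputable def fo19 : ℕ → ℕ := (fun i => lk2 fo19T 0xffffffff (Nat.mul 32 i))

end Cfsg.Agent.DC.J4c
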